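/-
Coset enumeration certificate: the assembled result.
-/
import Cfsg.Agent.Lib.Spor.TC.Steps
import Cfsg.Agent.Lib.Spor.SUFiveRad.Rels
import Cfsg.Agent.Lib.Spor.SUFiveRad.W.Part0
import Cfsg.Agent.Lib.Spor.SUFiveRad.W.Part1

namespace CfsgLib.Spor.SUFiveRad.W

open CfsgLib.Spor.TC

theorem steps_ok : cert.StepsOK 0 6108 :=
  ((steps0.append _ steps2824).append _ steps5452)

theorem rows_ok : cert.RowsOK 6108 1980 0 1980 :=
  (rows0.append _ rows1740)

theorem row_zero : cert.rowNode 0 = 0 := by decide +kernel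

/-- The certificate, for the relators as powers of words. -/
noncomputable def cosetCert : CosetCert 5 relsW [0, 1, 2, 3] 1980 :=
  ⟨cert, 6108, steps_ok, rows_ok, row_zero, by decide, rfl, by decide +kernel, by decide +kernel⟩

end CfsgLib.Spor.SUFiveRad.W
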